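import Mathlib
import Cfsg.Agent.PGrp.IndexP
import Cfsg.Agent.FGS.FrobCount
import Cfsg.Agent.FGS.Basic2

/-!
# PGrp/ClassSize: class sizes in `p`-groups (Mann, Ishikawa, Isaacs, Ito, breadth and class)
-/

set_option autoImplicit false

open Subgroup Cfsg
open scoped commutatorElement

namespace Cfsg.Agent.PGrp

open BG

universe u

variable {G : Type*} [Group G] {p : ℕ}

theorem relIndex_centralizer_singleton_le_ncard [Finite G] {H : Subgroup G} {W : Set G} {x : G}
    (h : ∀ g ∈ H, g * x * g⁻¹ ∈ W) : (centralizer {x}).relIndex H ≤ W.ncard := by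
  let f : H ⧸ (centralizer {x}).subgroupOf H → W := fun q =>
    Quotient.liftOn' q (fun g : H => (⟨(g : G) * x * (g : G)⁻¹, h g g.2⟩ : W)) (by
      intro a b hab
      rw [QuotientGroup.leftRel_apply, mem_subgroupOf, mem_centralizer_singleton_iff] at hab
      apply Subtype.ext
      have h2 : ((a : G)⁻¹ * b) * x = x * ((a : G)⁻¹ * b) := by simpa using hab
      calc (a : G) * x * (a : G)⁻¹ = a * (x * ((a : G)⁻¹ * b)) * (b : G)⁻¹ := by group
        _ = _ := by rw [← h2]; group)
  refine Nat.card_le_card_of_injective f ?_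
  intro a b hab
  obtain ⟨a, rfl⟩ := QuotientGroup.mk_surjective a
  obtain ⟨b, rfl⟩ := QuotientGroup.mk_surjective b
  have h1 : (a : G) * x * (a : G)⁻¹ = b * x * (b : G)⁻¹ := congrArg Subtype.val hab
  rw [QuotientGroup.eq, mem_subgroupOf, mem_centralizer_singleton_iff]
  simp only [coe_mul, coe_inv]
  calc (a : G)⁻¹ * b * x = (a : G)⁻¹ * (b * x * (b : G)⁻¹) * b := by group
    _ = _ := by rw [← h1]; group

theorem relIndex_sup_of_le_normalizer' [Finite G] {N H : Subgroup G} (h : H ≤ 𝐍(N)) :
    H.relIndex (H ⊔ N) = H.relIndex N := by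
  have h1 := card_sup_mul_card_inf h
  rw [sup_comm, inf_comm, card_eq_card_mul_relIndex (le_sup_left : H ≤ H ⊔ N),
    ← card_inf_mul_relIndex H N] at h1
  have h2 : 0 < Nat.card H * Nat.card ↥(H ⊓ N) := Nat.mul_pos Nat.card_pos Nat.card_pos
  refine Nat.eq_of_mul_eq_mul_left h2 ?_
  linarith

theorem index_centralizer_eq_one_iff {x : G} :
    (centralizer ({x} : Set G)).index = 1 ↔ x ∈ center G := by
  rw [index_eq_one, eq_top_iff', mem_center_iff]
  exact forall_congr' fun g => mem_centralizer_singleton_iff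

/-- Mann's lemma. -/
theorem index_centralizer_commutator_lt [Finite G] {K : Subgroup G} [hn : K.Normal]
    (hK : IsMulCommutative K) {x t : G} (hx : x ∉ center G) (ht : t ∈ K) :
    (centralizer ({⁅t, x⁆} : Set G)).index < (centralizer ({x} : Set G)).index := by
  have hc := isMulCommutative_iff_forall.mp hK
  by_cases h1 : ⁅t, x⁆ = 1
  · rw [index_centralizer_eq_one_iff.mpr (h1 ▸ one_mem _)]
    have h2 : (centralizer ({x} : Set G)).index ≠ 0 := index_ne_zero_of_finite
    have h3 := mt index_centralizer_eq_one_iff.mp hx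
    omega
  have hmem : ∀ a ∈ K, ⁅a, x⁆ ∈ K := fun a ha => by
    rw [commutatorElement_def, mul_assoc, mul_assoc, ← mul_assoc x]
    exact mul_mem ha (hn.conj_mem _ (inv_mem ha) x)
  let φ : K →* G :=
    { toFun := fun a => ⁅(a : G), x⁆
      map_one' := by simp
      map_mul' := fun a b => by
        rw [coe_mul, commutator_mul_left_of_commute (hc _ a.2 _ (hmem b b.2)),
          hc _ (hmem b b.2) _ (hmem a a.2)] }
  have hker : φ.ker = (centralizer ({x} : Set G)).subgroupOf K := by
    ext a
    rw [MonoidHom.mem_ker, mem_subgroupOf, mem_centralizer_singleton_iff]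
    exact commutatorElement_eq_one_iff_mul_comm
  set C := centralizer ({x} : Set G) with hC
  have h2 : C.relIndex (C ⊔ K) = Nat.card φ.range := by
    rw [relIndex_sup_of_le_normalizer' le_normalizer_of_normal, ← index_ker, hker]; rfl
  have h3 : (centralizer ({⁅t, x⁆} : Set G)).relIndex (C ⊔ K) ≤ ((φ.range : Set G) \ {1}).ncard := by
    refine relIndex_centralizer_singleton_le_ncard fun g hg => ⟨?_, fun h => h1 (by simpa using h)⟩
    obtain ⟨c, hc', k, hk, rfl⟩ := (mem_sup_of_le_normalizer' le_normalizer_of_normal).mp hg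
    refine ⟨⟨c * t * c⁻¹, hn.conj_mem _ ht c⟩, ?_⟩
    change ⁅c * t * c⁻¹, x⁆ = _
    have e1 : c * x = x * c := mem_centralizer_singleton_iff.mp hc'
    have e2 : k * ⁅t, x⁆ = ⁅t, x⁆ * k := hc _ hk _ (hmem t ht)
    have e3 : c * x * c⁻¹ = x := by rw [e1]; group
    calc ⁅c * t * c⁻¹, x⁆ = ⁅c * t * c⁻¹, c * x * c⁻¹⁆ := by rw [e3]
      _ = c * ⁅t, x⁆ * c⁻¹ := by simp only [commutatorElement_def]; group
      _ = c * (k * ⁅t, x⁆ * k⁻¹) * c⁻¹ := by rw [e2]; group
      _ = _ := by group
  have h4 : ((φ.range : Set G) \ {1}).ncard < Nat.card φ.range :=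
    Set.ncard_diff_singleton_lt_of_mem (one_mem _)
  have h5 := relIndex_mul_index (le_sup_left : C ≤ C ⊔ K)
  have h6 := relIndex_mul_index (inf_le_right : centralizer ({⁅t, x⁆} : Set G) ⊓ (C ⊔ K) ≤ C ⊔ K)
  rw [inf_relIndex_right] at h6
  have h7 := index_antitone (inf_le_left : centralizer ({⁅t, x⁆} : Set G) ⊓ (C ⊔ K) ≤ _)
  have h8 : 0 < (C ⊔ K).index := Nat.pos_of_ne_zero index_ne_zero_of_finite
  rw [← h5, h2]
  exact h7.trans_lt (h6 ▸ Nat.mul_lt_mul_of_pos_right (h3.trans_lt h4) h8)

/-- Elements of minimal nontrivial class size act trivially on `K Z / Z` for abelian normal `K`. -/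
theorem commutator_mem_center_of_min [Finite G] {K : Subgroup G} [K.Normal]
    (hK : IsMulCommutative K) {m : ℕ}
    (hmin : ∀ x : G, 1 < (centralizer ({x} : Set G)).index → m ≤ (centralizer ({x} : Set G)).index)
    {x t : G} (hx : (centralizer ({x} : Set G)).index ≤ m) (ht : t ∈ K) : ⁅t, x⁆ ∈ center G := by
  by_cases hz : x ∈ center G
  · rw [commutatorElement_eq_one_iff_mul_comm.mpr (mem_center_iff.mp hz t)]
    exact one_mem _
  have h1 := index_centralizer_commutator_lt hK hz ht
  rw [← index_centralizer_eq_one_iff]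
  have h2 : (centralizer ({⁅t, x⁆} : Set G)).index ≠ 0 := index_ne_zero_of_finite
  have := hmin ⁅t, x⁆
  omega

theorem commutator_closure_le_of_normal {K N : Subgroup G} [K.Normal] [N.Normal] {S : Set G}
    (h : ∀ x ∈ S, ∀ t ∈ K, ⁅t, x⁆ ∈ N) : ⁅closure S, K⁆ ≤ N := by
  rw [commutator_le]
  intro x hx
  induction hx using closure_induction with
  | mem x hx => exact fun t ht => commutator_symm_mem (h x hx t ht)
  | one => intro t _; simp
  | mul x y _ _ hx hy =>
    exact fun t ht => commutator_mul_left_mem (le_normalizer_of_normal (mem_top x)) (hx t ht) (hy t ht)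
  | inv x _ hx =>
    intro t ht
    have := commutator_zpow_left_mem (le_normalizer_of_normal (mem_top x)) (hx t ht) (-1)
    rwa [zpow_neg_one] at this

theorem upperCentralSeries_three_of_commutator_le {A M : Subgroup G} (hA : 𝐂(A) ≤ A)
    (h : ⁅M, A⁆ ≤ center G) : Subgroup.upperCentralSeries M 3 = ⊤ := by
  have h1 : ⁅M, M⁆ ≤ A := (Core.three_subgroups (h.trans (center_le_centralizer _))
    (h.trans (center_le_centralizer _))).trans hA
  have h2 : ⁅⁅M, M⁆, M⁆ ≤ center G :=
    (commutator_mono h1 le_rfl).trans ((commutator_comm A M).le.trans h)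
  rw [← lowerCentralSeries_eq_bot_iff_upperCentralSeries_eq_top,
    ← map_eq_bot_iff_of_injective _ M.subtype_injective, top_subtype_lowerCentralSeries]
  exact Core.le_centralizer_iff_commutator_eq_bot'.mp (h2.trans (center_le_centralizer _))

/-- In a group with two class sizes every abelian normal subgroup lies in the second centre. -/
theorem commutator_mem_center_of_two_sizes [Finite G] {m : ℕ}
    (h : ∀ x : G, (centralizer ({x} : Set G)).index = 1 ∨ (centralizer ({x} : Set G)).index = m)
    {K : Subgroup G} [K.Normal] (hK : IsMulCommutative K) {t : G} (ht : t ∈ K) (x : G) :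
    ⁅t, x⁆ ∈ center G := by
  by_cases hz : x ∈ center G
  · rw [commutatorElement_eq_one_iff_mul_comm.mpr (mem_center_iff.mp hz t)]
    exact one_mem _
  refine commutator_mem_center_of_min hK (m := m) (fun y hy => ?_) ?_ ht
  · rcases h y with h | h <;> omega
  · exact ((h x).resolve_left (mt index_centralizer_eq_one_iff.mp hz)).le

theorem centralizer_eq_of_two_sizes [Finite G] {m : ℕ}
    (h : ∀ x : G, (centralizer ({x} : Set G)).index = 1 ∨ (centralizer ({x} : Set G)).index = m)
    {x y : G} (hy : y ∉ center G) (hle : centralizer ({x} : Set G) ≤ centralizer {y}) :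
    centralizer ({x} : Set G) = centralizer {y} := by
  have hx : x ∉ center G := fun hx => hy (by
    rw [← index_centralizer_eq_one_iff, index_eq_one] at hx ⊢
    exact eq_top_iff.mpr (hx ▸ hle))
  have h1 := (h x).resolve_left (mt index_centralizer_eq_one_iff.mp hx)
  have h2 := (h y).resolve_left (mt index_centralizer_eq_one_iff.mp hy)
  refine eq_of_le_of_card_le hle ?_
  have e1 := (centralizer ({x} : Set G)).card_mul_index
  have e2 := (centralizer ({y} : Set G)).card_mul_index
  have h0 : 0 < m := h1 ▸ Nat.pos_of_ne_zero index_ne_zero_of_finite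
  rw [h1, ← e2, h2] at e1
  exact (Nat.eq_of_mul_eq_mul_right h0 e1).ge

theorem centralizer_le_centralizer_pow (x : G) (n : ℕ) :
    centralizer ({x} : Set G) ≤ centralizer {x ^ n} := fun g hg => by
  rw [mem_centralizer_singleton_iff] at hg ⊢
  exact (Commute.pow_right hg n).eq

/-- Isaacs: a `p`-group with two class sizes has central quotient of exponent `p`. -/
theorem pow_mem_center_of_two_sizes [Finite G] [Fact p.Prime] [Group.IsNilpotent G]
    (hG : ∀ x : G, ∃ k, x ^ p ^ k ∈ center G) {m : ℕ}
    (h : ∀ x : G, (centralizer ({x} : Set G)).index = 1 ∨ (centralizer ({x} : Set G)).index = m)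
    (x : G) : x ^ p ∈ center G := by
  have hZ : ∀ g z : G, z ∈ center G → Commute g z := fun g z hz => mem_center_iff.mp hz g
  have h2 : ∀ y : G, (∀ g, ⁅y, g⁆ ∈ center G) → y ^ p ∈ center G := by
    intro y hy
    by_contra hn
    have e := centralizer_eq_of_two_sizes h hn (centralizer_le_centralizer_pow y p)
    apply hn
    refine pow_mem (mem_center_iff.mpr fun g => ?_) p
    by_contra hg
    have hg' : g ∉ centralizer ({y} : Set G) := fun h => hg (mem_centralizer_singleton_iff.mp h)
    obtain ⟨j, h3, h4⟩ := exists_pow_notMem_pow_mem (N := ⊥) (x := ⁅y, g⁆) (p := p)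
      (fun h => hg (commutatorElement_eq_one_iff_mul_comm.mp h).symm) (by
        obtain ⟨k, hk⟩ := hG y
        refine ⟨k, ?_⟩
        rw [← commutator_pow_left_of_commute (hZ _ _ (hy g)), commutatorElement_eq_one_iff_mul_comm]
        exact (mem_center_iff.mp hk g).symm)
    apply h3
    rw [← commutator_pow_right_of_commute (hZ _ _ (hy g))] at h4 ⊢
    rw [← commutator_pow_left_of_commute (hZ _ _ (hy _)), mem_bot,
      commutatorElement_eq_one_iff_mul_comm, eq_comm, ← mem_centralizer_singleton_iff, ← e,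
      mem_centralizer_singleton_iff] at h4
    rw [mem_bot, commutatorElement_eq_one_iff_mul_comm, h4]
  obtain ⟨A, -, hA1, hA2, hA3⟩ := exists_scn_ge (⊥ : Subgroup G) inferInstance
  have h3 : ∀ t ∈ A, ∀ g, ⁅t, g⁆ ∈ center G := fun t ht g =>
    commutator_mem_center_of_two_sizes h hA2 ht g
  by_contra hn
  have e := centralizer_eq_of_two_sizes h hn (centralizer_le_centralizer_pow x p)
  refine hn (h2 x (h3 x ?_))
  rw [← hA3, mem_centralizer_iff]
  intro t ht
  rw [← mem_centralizer_singleton_iff, e, mem_centralizer_singleton_iff,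
    ← commutatorElement_eq_one_iff_mul_comm, commutator_pow_right_of_commute (hZ _ _ (h3 t ht x)),
    ← commutator_pow_left_of_commute (hZ _ _ (h3 t ht x)), commutatorElement_eq_one_iff_mul_comm]
  exact (mem_center_iff.mp (h2 t (h3 t ht)) x).symm

theorem sum_comp_mk {M : Type*} [AddCommMonoid M] [Fintype G] (N : Subgroup G) [Fintype (G ⧸ N)]
    (f : G ⧸ N → M) : ∑ x : G, f (x : G ⧸ N) = Nat.card N • ∑ q, f q := by
  classical
  have : Fintype N := Fintype.ofFinite N
  rw [← Fintype.sum_equiv (groupEquivQuotientProdSubgroup (s := N)).symm (fun z => f z.1) _ ?_,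
    Fintype.sum_prod_type, Finset.smul_sum]
  · simp [Nat.card_eq_fintype_card]
  · rintro ⟨q, n⟩
    congr 1
    exact (congrArg Prod.fst ((groupEquivQuotientProdSubgroup (s := N)).apply_symm_apply (q, n))).symm

theorem breadth_aux [Fact p.Prime] (c : ℕ) : ∀ (G : Type u) [Group G] [Fintype G], IsPGroup p G →
    Group.nilpotencyClass G = c → (c - 1) * (p - 1) * Nat.card G ≤
      p * ∑ x : G, Nat.log p (centralizer ({x} : Set G)).index := by
  have hp : p.Prime := Fact.out
  induction c with
  | zero => intro G _ _ _ _; simp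
  | succ c ih =>
    intro G _ _ hG hc
    rcases Nat.eq_zero_or_pos c with rfl | hc0
    · simp
    classical
    have := hG.isNilpotent
    have : Fintype (G ⧸ center G) := Fintype.ofFinite _
    have h1 := ih (G ⧸ center G) (hG.to_quotient _) (by
      rw [Group.nilpotencyClass_quotient_center, hc]; rfl)
    have hna : ¬ (⊤ : Subgroup G) ≤ center G := fun h => by
      have : Group.nilpotencyClass G ≤ 1 := by
        rw [← Subgroup.upperCentralSeries_eq_top_iff_nilpotencyClass_le,
          Subgroup.upperCentralSeries_one]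
        exact eq_top_iff.mpr h
      omega
    obtain ⟨y, -, hy1, -, hy2⟩ := exists_central_mod_normal hG ⊤ (center G) hna
    have key : ∀ x : G, Nat.log p (centralizer ({(x : G ⧸ center G)} : Set (G ⧸ center G))).index +
        (if x ∈ centralizer ({y} : Set G) then 0 else 1) ≤
          Nat.log p (centralizer ({x} : Set G)).index := by
      intro x
      set D := (centralizer ({(x : G ⧸ center G)} : Set (G ⧸ center G))).comap
        (QuotientGroup.mk' (center G)) with hD
      have hi : D.index = (centralizer ({(x : G ⧸ center G)} : Set (G ⧸ center G))).index :=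
        index_comap_of_surjective _ (QuotientGroup.mk'_surjective _)
      have hle : centralizer ({x} : Set G) ≤ D := fun g hg => by
        rw [hD, mem_comap, mem_centralizer_singleton_iff, QuotientGroup.mk'_apply,
          ← QuotientGroup.mk_mul, mem_centralizer_singleton_iff.mp hg, QuotientGroup.mk_mul]
      rw [← hi]
      split_ifs with hx
      · exact Nat.log_mono_right (index_antitone hle)
      · have hlt : centralizer ({x} : Set G) < D := by
          refine lt_of_le_of_ne hle fun he => hx ?_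
          have : y ∈ D := by
            rw [hD, mem_comap, mem_centralizer_singleton_iff, QuotientGroup.mk'_apply,
              ← commutatorElement_eq_one_iff_mul_comm]
            exact (QuotientGroup.eq_one_iff ⁅y, x⁆).mpr (hy2 x)
          rw [← he, mem_centralizer_singleton_iff] at this
          exact mem_centralizer_singleton_iff.mpr this.symm
        have h3 := mul_card_le_of_lt (hG.to_subgroup _) hlt
        have h4 : D.index * p ≤ (centralizer ({x} : Set G)).index := by
          refine Nat.le_of_mul_le_mul_left ?_ (Nat.card_pos (α := centralizer ({x} : Set G)))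
          rw [card_mul_index, ← D.card_mul_index]
          nlinarith
        rw [← Nat.log_mul_base hp.one_lt index_ne_zero_of_finite]
        exact Nat.log_mono_right h4
    have h5 := Finset.sum_le_sum (s := Finset.univ) fun x _ => key x
    rw [Finset.sum_add_distrib, sum_comp_mk (center G) (fun q => Nat.log p
      (centralizer ({q} : Set (G ⧸ center G))).index), smul_eq_mul] at h5
    have h6 : ∑ x : G, (if x ∈ centralizer ({y} : Set G) then 0 else 1) +
        Nat.card (centralizer ({y} : Set G)) = Nat.card G := by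
      rw [Finset.sum_ite, Finset.sum_const_zero, zero_add, Finset.sum_const, smul_eq_mul, mul_one,
        Nat.card_eq_fintype_card, Nat.card_eq_fintype_card, Fintype.card_subtype, add_comm,
        Finset.card_filter_add_card_filter_not, Finset.card_univ]
    have h7 : p * Nat.card (centralizer ({y} : Set G)) ≤ Nat.card G := by
      rw [← card_top (G := G)]
      refine mul_card_le_of_lt (hG.to_subgroup _) (lt_top_iff_ne_top.mpr fun h => hy1 ?_)
      rwa [← index_centralizer_eq_one_iff, index_eq_one]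
    have h8 := card_quotient_mul_card (center G)
    obtain ⟨c, rfl⟩ := Nat.exists_eq_add_of_le' hc0
    obtain ⟨q, rfl⟩ : ∃ q, p = q + 1 := ⟨p - 1, (Nat.sub_add_cancel hp.one_le).symm⟩
    simp only [Nat.add_sub_cancel] at h1 ⊢
    have h9 := Nat.mul_le_mul_left (Nat.card (center G)) h1
    have h10 := Nat.mul_le_mul_left (q + 1) h5
    generalize (∑ x : G, Nat.log (q + 1) (centralizer ({x} : Set G)).index) = s at *
    generalize (∑ x : G ⧸ center G,
      Nat.log (q + 1) (centralizer ({x} : Set (G ⧸ center G))).index) = s' at *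
    generalize (∑ x : G, (if x ∈ centralizer ({y} : Set G) then 0 else 1)) = t at *
    have e1 : Nat.card (center G) * (c * q * Nat.card (G ⧸ center G)) = c * q * Nat.card G := by
      rw [← h8]; ring
    have e2 : q * Nat.card G ≤ (q + 1) * t := by nlinarith
    rw [e1] at h9
    calc (c + 1) * q * Nat.card G = c * q * Nat.card G + q * Nat.card G := by ring
      _ ≤ Nat.card (center G) * ((q + 1) * s') + (q + 1) * t := Nat.add_le_add h9 e2
      _ = (q + 1) * (Nat.card (center G) * s' + t) := by ring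
      _ ≤ _ := h10

theorem nilpotencyClass_lt_of_breadth [Finite G] [Fact p.Prime] (hG : IsPGroup p G) {b : ℕ}
    (hb0 : b ≠ 0) (hb : ∀ x : G, (centralizer ({x} : Set G)).index ≤ p ^ b) :
    (Group.nilpotencyClass G - 1) * (p - 1) < b * p := by
  have hp : p.Prime := Fact.out
  have : Fintype G := Fintype.ofFinite G
  have h1 := breadth_aux _ G hG rfl
  have h2 : ∑ x : G, Nat.log p (centralizer ({x} : Set G)).index < ∑ _x : G, b := by
    refine Finset.sum_lt_sum (fun x _ => ?_) ⟨1, Finset.mem_univ _, ?_⟩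
    · rw [← Nat.log_pow hp.one_lt b]; exact Nat.log_mono_right (hb x)
    · rw [index_centralizer_eq_one_iff.mpr (one_mem _), Nat.log_one_right]; omega
  rw [Finset.sum_const, Finset.card_univ, ← Nat.card_eq_fintype_card, smul_eq_mul] at h2
  have h3 := h1.trans_lt (Nat.mul_lt_mul_of_pos_left h2 hp.pos)
  refine Nat.lt_of_mul_lt_mul_right (a := Nat.card G) ?_
  nlinarith

theorem card_pow_eq_one_of_comm [Finite G] (hc : IsMulCommutative G) {a b m : ℕ}
    (hG : Nat.card G = a * b) (ham : a ∣ m) (hmb : m.Coprime b) :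
    Nat.card {x : G // x ^ m = 1} = a := by
  have hab : a.Coprime b := hmb.coprime_dvd_left ham
  have h1 : ∀ x : G, x ^ m = 1 ↔ x ^ a = 1 := fun x => by
    refine ⟨fun h => ?_, fun h => pow_eq_one_of_dvd h ham⟩
    rw [← orderOf_dvd_iff_pow_eq_one] at h ⊢
    exact (hmb.coprime_dvd_left h).dvd_of_dvd_mul_right (hG ▸ orderOf_dvd_natCard x)
  rw [Nat.card_congr (Equiv.subtypeEquivRight h1)]
  refine Nat.dvd_antisymm ?_ (FGS.dvd_card_pow_eq_one ⟨b, hG⟩)
  let K : Subgroup G :=
    { carrier := {x | x ^ a = 1}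
      mul_mem' := fun {x y} hx hy => by
        change (x * y) ^ a = 1
        rw [Commute.mul_pow (hc.is_comm.comm x y), hx, hy, one_mul]
      one_mem' := one_pow a
      inv_mem' := fun {x} hx => by
        change x⁻¹ ^ a = 1
        rw [inv_pow, hx, inv_one] }
  change Nat.card K ∣ a
  refine Nat.Coprime.dvd_of_dvd_mul_right ?_ (hG ▸ K.card_subgroup_dvd_card)
  refine Nat.coprime_of_dvd fun q hq h2 h3 => ?_
  obtain ⟨x, hx, hxq⟩ := FGS.exists_prime_orderOf_mem hq h2
  have h4 : q ∣ a := hxq ▸ orderOf_dvd_of_pow_eq_one hx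
  exact hq.one_lt.ne' (Nat.eq_one_of_dvd_coprimes hab h4 h3)

/-- Counting in a group partitioned by subgroups. -/
theorem card_of_partition [Finite G] (f : G → Subgroup G) (h1 : ∀ x, x ≠ 1 → x ∈ f x)
    (h2 : ∀ x, x ≠ 1 → ∀ y ∈ f x, y ≠ 1 → f y = f x) :
    ∃ k : ℕ, ∀ (m t : ℕ), (∀ x, x ≠ 1 → Nat.card {y : f x // y ^ m = 1} = t + 1) →
      Nat.card {y : G // y ^ m = 1} = 1 + k * t := by
  classical
  have : Fintype G := Fintype.ofFinite G
  let T : Finset (Subgroup G) := (Finset.univ.filter fun x : G => x ≠ 1).image f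
  refine ⟨T.card, fun m t ht => ?_⟩
  let S : Finset G := Finset.univ.filter fun x => x ^ m = 1
  have hmaps : ((S.erase 1 : Finset G) : Set G).MapsTo f T := by
    intro g hg
    simp only [Finset.coe_erase, Set.mem_diff, Set.mem_singleton_iff] at hg
    exact Finset.mem_coe.mpr (Finset.mem_image_of_mem f (by simpa using hg.2))
  have hsum := Finset.card_eq_sum_card_fiberwise hmaps
  have hfib : ∀ M ∈ T, ((S.erase 1).filter fun g => f g = M).card = t := by
    intro M hM
    obtain ⟨x, hx, rfl⟩ := Finset.mem_image.mp hM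
    have hx1 : x ≠ 1 := by simpa using hx
    have e : ((S.erase 1).filter fun g => f g = f x) =
        (Finset.univ.filter fun g => g ∈ f x ∧ g ^ m = 1).erase 1 := by
      ext g
      simp only [S, Finset.mem_filter, Finset.mem_erase, Finset.mem_univ, true_and]
      exact ⟨fun h => ⟨h.1.1, h.2 ▸ h1 g h.1.1, h.1.2⟩,
        fun h => ⟨⟨h.1, h.2.2⟩, h2 x hx1 g h.2.1 h.1⟩⟩
    rw [e, Finset.card_erase_of_mem (by simp), ← Fintype.card_subtype, ← Nat.card_eq_fintype_card]
    have := ht x hx1
    rw [Nat.card_congr (Equiv.subtypeSubtypeEquivSubtypeInter (fun g => g ∈ f x)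
      (fun g => g ^ m = 1)).symm, Nat.card_congr (Equiv.subtypeEquivRight (q := fun y : f x =>
        y ^ m = 1) (fun y => by rw [← Subtype.val_inj]; simp)), this]
    rfl
  rw [Finset.sum_congr rfl hfib, Finset.sum_const, smul_eq_mul,
    Finset.card_erase_of_mem (by simp [S])] at hsum
  have h3 : 0 < S.card := Finset.card_pos.mpr ⟨1, by simp [S]⟩
  rw [Nat.card_eq_fintype_card, Fintype.card_subtype, ← hsum]
  change S.card = _
  omega

theorem partition_arith {A B a b k : ℕ} (hA : A ∣ 1 + k * a) (hB : B ∣ 1 + k * b)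
    (hAB : A * B = 1 + k * (a * b + a + b)) (hd : (a + 1) * (b + 1) ∣ A * B) (ha : 0 < a)
    (hb : 0 < b) : k ≤ 1 := by
  have hc : (A * B).Coprime k := by
    rw [hAB, Nat.coprime_add_mul_left_left]; simp
  have h1 : A ∣ (a + 1) * b := by
    refine (Nat.Coprime.coprime_mul_right hc).dvd_of_dvd_mul_left ?_
    have : A * B = (1 + k * a) + k * ((a + 1) * b) := by rw [hAB]; ring
    exact (Nat.dvd_add_right hA).mp (this ▸ Dvd.intro B rfl)
  have h2 : B ∣ (b + 1) * a := by
    refine (Nat.Coprime.coprime_mul_left hc).dvd_of_dvd_mul_left ?_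
    have : A * B = (1 + k * b) + k * ((b + 1) * a) := by rw [hAB]; ring
    exact (Nat.dvd_add_right hB).mp (this ▸ Dvd.intro_left A rfl)
  have h3 := Nat.mul_le_mul (Nat.le_of_dvd (by positivity) h1) (Nat.le_of_dvd (by positivity) h2)
  by_contra hk
  obtain ⟨j, rfl⟩ : ∃ j, k = j + 1 := ⟨k - 1, by omega⟩
  have h4 : (a + 1) * (b + 1) ∣ j := by
    have e : (j + 1) * ((a + 1) * (b + 1)) = A * B + j := by rw [hAB]; ring
    exact (Nat.dvd_add_right hd).mp (e ▸ Dvd.intro_left _ rfl)
  have h5 := Nat.le_of_dvd (by omega) h4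
  have h6 := Nat.mul_le_mul_right (a * b + a + b) h5
  nlinarith [Nat.mul_pos ha hb]

/-- Ito: with two class sizes, all `p'`-elements are central for some prime `p`. -/
theorem exists_prime_of_two_sizes [Finite G] {n : ℕ}
    (h : ∀ x : G, (centralizer ({x} : Set G)).index = 1 ∨ (centralizer ({x} : Set G)).index = n) :
    ∃ p : ℕ, p.Prime ∧ ∀ x : G, (orderOf x).Coprime p → x ∈ center G := by
  by_contra hcon
  push Not at hcon
  obtain ⟨x₀, -, hx₀⟩ := hcon 2 Nat.prime_two
  set π := QuotientGroup.mk' (center G) with hπ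
  have hπ1 : ∀ x, π x = 1 ↔ x ∈ center G := fun x => QuotientGroup.eq_one_iff x
  have hcard : ∀ x, x ∉ center G → Nat.card ((centralizer ({x} : Set G)).map π) =
      Nat.card ((centralizer ({x₀} : Set G)).map π) := by
    intro x hx
    have e1 := card_map_mk'_mul (center G) (centralizer ({x} : Set G))
    have e2 := card_map_mk'_mul (center G) (centralizer ({x₀} : Set G))
    rw [inf_eq_left.mpr (center_le_centralizer _)] at e1 e2
    have e3 := (centralizer ({x} : Set G)).card_mul_index
    have e4 := (centralizer ({x₀} : Set G)).card_mul_index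
    have h1 := (h x).resolve_left (mt index_centralizer_eq_one_iff.mp hx)
    have h2 := (h x₀).resolve_left (mt index_centralizer_eq_one_iff.mp hx₀)
    have h0 : 0 < n := h1 ▸ Nat.pos_of_ne_zero index_ne_zero_of_finite
    rw [h1, ← e4, h2] at e3
    rw [Nat.eq_of_mul_eq_mul_right h0 e3, ← e2] at e1
    exact Nat.eq_of_mul_eq_mul_right Nat.card_pos e1
  set d := Nat.card ((centralizer ({x₀} : Set G)).map π) with hd
  have hord : ∀ x, x ∉ center G → orderOf (π x) ∣ d := fun x hx => by
    rw [← hcard x hx]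
    exact orderOf_dvd_natCard _ (mem_map_of_mem π (FGS.self_mem_centralizer x))
  have hlift : ∀ q : ℕ, q.Prime → q ∣ d → ∀ x, x ∉ center G →
      ∃ y ∈ centralizer ({x} : Set G), y ∉ center G ∧ ∃ k, orderOf y = q ^ k := by
    intro q hq hqd x hx
    have := Fact.mk hq
    obtain ⟨_, ⟨y, hy, rfl⟩, hy2⟩ := FGS.exists_prime_orderOf_mem hq (hcard x hx ▸ hqd)
    obtain ⟨a, ha, ha2, ha3⟩ := FGS.exists_pElement_lift π y (p := q) (k := 1) (by rw [hy2, pow_one])
    refine ⟨a, zpowers_le.mpr hy ha, fun hz => ?_, ha3⟩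
    rw [← hπ1, ha2] at hz
    exact FGS.ne_one_of_orderOf_prime hq hy2 hz
  have hne : ∀ x, x ∉ center G → orderOf (π x) ≠ 1 := fun x hx h =>
    hx ((hπ1 x).mp (orderOf_eq_one_iff.mp h))
  obtain ⟨p, hp, hpd⟩ := Nat.exists_prime_and_dvd (hne x₀ hx₀)
  replace hpd := hpd.trans (hord x₀ hx₀)
  obtain ⟨v, hv, hvz⟩ := hcon p hp
  obtain ⟨q, hq, hqd⟩ := Nat.exists_prime_and_dvd (hne v hvz)
  have hqp : q.Coprime p := hv.coprime_dvd_left (hqd.trans (orderOf_map_dvd π v))
  replace hqd := hqd.trans (hord v hvz)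
  have := Fact.mk hp
  have eq_of_coprime : ∀ {a b : G}, a ∉ center G → b ∉ center G → Commute a b →
      (orderOf a).Coprime (orderOf b) → centralizer ({a} : Set G) = centralizer {b} := by
    intro a b ha hb hab hc
    rw [← centralizer_eq_of_two_sizes h ha
      (FGS.centralizer_le_of_mem_zpowers (FGS.mem_zpowers_mul_left hab hc)),
      centralizer_eq_of_two_sizes h hb
        (FGS.centralizer_le_of_mem_zpowers (FGS.mem_zpowers_mul_right hab hc))]
  have comm_of_two : ∀ {k : ℕ} {a b : G}, a ∉ center G → b ∉ center G → Commute a b →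
      orderOf a = p ^ k → (orderOf b).Coprime p → IsMulCommutative (centralizer ({a} : Set G)) := by
    intro k a b ha hb hab hak hbp
    have e := eq_of_coprime ha hb hab (hak ▸ hbp.symm.pow_left k)
    refine le_centralizer_iff_isMulCommutative.mp fun y hy => ?_
    obtain ⟨c, d, hc, hd, rfl, hcd, ⟨j, hj⟩, hdp⟩ := FGS.exists_pPart p y
    have hc' := zpowers_le.mpr hy hc
    have hd' := zpowers_le.mpr hy hd
    refine mul_mem ?_ ?_
    · by_cases hz : c ∈ center G
      · exact center_le_centralizer _ hz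
      · rw [e] at hc' ⊢
        rw [← eq_of_coprime hz hb (mem_centralizer_singleton_iff.mp hc')
          (hj ▸ hbp.symm.pow_left j)]
        exact mem_centralizer_iff.mpr fun u hu => mem_centralizer_singleton_iff.mp hu
    · by_cases hz : d ∈ center G
      · exact center_le_centralizer _ hz
      · rw [← eq_of_coprime hz ha (mem_centralizer_singleton_iff.mp hd') (hak ▸ hdp.pow_right k)]
        exact mem_centralizer_iff.mpr fun u hu => mem_centralizer_singleton_iff.mp hu
  have hcomm : ∀ x, x ∉ center G → IsMulCommutative (centralizer ({x} : Set G)) := by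
    intro x hx
    obtain ⟨a, b, ha, hb, rfl, hab, ⟨j, hj⟩, hbp⟩ := FGS.exists_pPart p x
    by_cases haz : a ∈ center G
    · have hbz : b ∉ center G := fun hbz => hx (mul_mem haz hbz)
      obtain ⟨y, hy, hyz, k, hk⟩ := hlift p hp hpd b hbz
      have hyb : Commute y b := mem_centralizer_singleton_iff.mp hy
      refine isMulCommutative_of_le (FGS.centralizer_le_of_mem_zpowers hb) ?_
      rw [← eq_of_coprime hyz hbz hyb (hk ▸ hbp.symm.pow_left k)]
      exact comm_of_two hyz hbz hyb hk hbp
    · obtain ⟨y, hy, hyz, k, hk⟩ := hlift q hq hqd a haz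
      exact isMulCommutative_of_le (FGS.centralizer_le_of_mem_zpowers ha) (comm_of_two haz hyz
        (mem_centralizer_singleton_iff.mp hy).symm hj (hk ▸ hqp.pow_left k))
  have hs := QuotientGroup.mk'_surjective (center G)
  choose s hs using hs
  have hsz : ∀ x, x ≠ 1 → s x ∉ center G := fun x hx hz => hx (by rw [← hs x, hπ1]; exact hz)
  obtain ⟨k, hk⟩ := card_of_partition (fun x => (centralizer ({s x} : Set G)).map π)
    (fun x hx => ⟨s x, FGS.self_mem_centralizer _, hs x⟩) (by
      rintro x hx _ ⟨y, hy, rfl⟩ hy1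
      have hyz : y ∉ center G := fun hz => hy1 ((hπ1 y).mpr hz)
      have e1 := centralizer_eq_of_two_sizes h hyz
        (FGS.le_centralizer_of_comm (hcomm _ (hsz x hx)) hy)
      have e2 : s (π y) ∈ centralizer ({y} : Set G) := by
        have : y⁻¹ * s (π y) ∈ center G := by rw [← hπ1, map_mul, map_inv, hs, inv_mul_cancel]
        have := mul_mem (FGS.self_mem_centralizer y) (center_le_centralizer _ this)
        simpa using this
      rw [← centralizer_eq_of_two_sizes h (hsz _ hy1)
        (FGS.le_centralizer_of_comm (hcomm _ hyz) e2), e1])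
  have hd0 : d ≠ 0 := Nat.card_pos.ne'
  have hQ0 : Nat.card (G ⧸ center G) ≠ 0 := Nat.card_pos.ne'
  obtain ⟨i, B, hB, hQ⟩ := Nat.exists_eq_pow_mul_and_not_dvd hQ0 p hp.one_lt.ne'
  obtain ⟨j, b, hb, hdj⟩ := Nat.exists_eq_pow_mul_and_not_dvd hd0 p hp.one_lt.ne'
  have hdQ : d ∣ Nat.card (G ⧸ center G) := card_subgroup_dvd_card _
  have cB : (p ^ j).Coprime B := ((Nat.Prime.coprime_iff_not_dvd hp).mpr hB).pow_left j
  have cb : (p ^ i).Coprime b := ((Nat.Prime.coprime_iff_not_dvd hp).mpr hb).pow_left i
  have d1 : p ^ j ∣ p ^ i := cB.dvd_of_dvd_mul_right (hQ ▸ (Dvd.intro b hdj.symm).trans hdQ)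
  have d2 : b ∣ B := cb.symm.dvd_of_dvd_mul_left (hQ ▸ (Dvd.intro_left _ hdj.symm).trans hdQ)
  have ha1 : 1 < p ^ j := by
    refine Nat.one_lt_pow (fun h0 => hb ?_) hp.one_lt
    rwa [hdj, h0, pow_zero, one_mul] at hpd
  have hb1 : 1 < b := by
    have : q ∣ b := (hqp.pow_right j).dvd_of_dvd_mul_left (hdj ▸ hqd)
    exact hq.one_lt.trans_le (Nat.le_of_dvd (Nat.pos_of_ne_zero fun h0 => hd0 (by
      rw [hdj, h0, mul_zero])) this)
  obtain ⟨a, ha⟩ : ∃ a, p ^ j = a + 1 := ⟨p ^ j - 1, by omega⟩
  obtain ⟨b, rfl⟩ : ∃ c, b = c + 1 := ⟨b - 1, by omega⟩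
  have hc' : ∀ x, x ≠ 1 → IsMulCommutative ((centralizer ({s x} : Set G)).map π) := fun x hx => by
    have := hcomm _ (hsz x hx)
    infer_instance
  have k1 := hk (p ^ i) a fun x hx => by
    rw [← ha]
    exact card_pow_eq_one_of_comm (hc' x hx) ((hcard _ (hsz x hx)).trans hdj) d1 cb
  have k2 := hk B b fun x hx =>
    card_pow_eq_one_of_comm (hc' x hx) ((hcard _ (hsz x hx)).trans (hdj.trans (mul_comm _ _))) d2
      cB.symm
  have k3 := hk 0 (a * b + a + b) fun x hx => by
    rw [Nat.card_congr (Equiv.subtypeUnivEquiv fun y => pow_zero y), hcard _ (hsz x hx), hdj, ha]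
    ring
  rw [Nat.card_congr (Equiv.subtypeUnivEquiv fun y => pow_zero y), hQ] at k3
  have k4 := partition_arith (k1 ▸ FGS.dvd_card_pow_eq_one (Dvd.intro B hQ.symm))
    (k2 ▸ FGS.dvd_card_pow_eq_one (Dvd.intro_left _ hQ.symm)) k3 (by rw [← ha, ← hdj, ← hQ]; exact hdQ)
    (by omega) (by omega)
  have k5 : (centralizer ({x₀} : Set G)).map π = ⊤ := by
    refine eq_of_le_of_card_le le_top ?_
    rw [card_top, hQ, k3, ← hd, hdj, ha]
    have := Nat.mul_le_mul_right (a * b + a + b) k4
    linarith
  have k6 := congrArg (comap π) k5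
  rw [comap_map_eq_self (by rw [hπ, QuotientGroup.ker_mk']; exact center_le_centralizer _),
    comap_top] at k6
  exact hx₀ (FGS.mem_center_iff_centralizer_eq_top.mpr k6)

end Cfsg.Agent.PGrp
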