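import Mathlib
import Cfsg.Agent.FGS.Basic2
import Cfsg.Agent.PGrp.Frattini
import Cfsg.Agent.BG.AmbCore
import Cfsg.Agent.Core.SylowOf

/-! Minimal covers of a finite group by nilpotent subgroups. -/

set_option autoImplicit false
set_option linter.unusedSectionVars false

open Subgroup
open scoped Pointwise

namespace Cfsg.Agent.PGrp

variable {G : Type*} [Group G] [Finite G]

/-- A minimal cover by nilpotent subgroups. -/
def NilCover (𝓐 : Finset (Subgroup G)) : Prop :=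
  ((∀ A ∈ 𝓐, A ≠ ⊤) ∧ (∀ g : G, ∃ A ∈ 𝓐, g ∈ A)) ∧ (∀ 𝓑 : Finset (Subgroup G),
    (∀ A ∈ 𝓑, A ≠ ⊤) ∧ (∀ g : G, ∃ A ∈ 𝓑, g ∈ A) → 𝓐.card ≤ 𝓑.card) ∧
    (∀ A ∈ 𝓐, Group.IsNilpotent A)

namespace NilCover

variable {𝓐 : Finset (Subgroup G)} (h : NilCover 𝓐)
include h

theorem sup_top {A B : Subgroup G} (hA : A ∈ 𝓐) (hB : B ∈ 𝓐) (hne : A ≠ B) : A ⊔ B = ⊤ := by
  classical
  by_contra hn
  have := h.2.1 (insert (A ⊔ B) ((𝓐.erase A).erase B)) ⟨fun C hC => ?_, fun g => ?_⟩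
  · have h1 := Finset.card_insert_le (A ⊔ B) ((𝓐.erase A).erase B)
    rw [Finset.card_erase_of_mem (Finset.mem_erase.2 ⟨hne.symm, hB⟩),
      Finset.card_erase_of_mem hA] at h1
    have h2 : 1 < 𝓐.card := Finset.one_lt_card.2 ⟨A, hA, B, hB, hne⟩
    omega
  · rcases Finset.mem_insert.1 hC with rfl | hC
    · exact hn
    · exact h.1.1 C (Finset.mem_of_mem_erase (Finset.mem_of_mem_erase hC))
  · obtain ⟨C, hC, hg⟩ := h.1.2 g
    by_cases h1 : C = A
    · exact ⟨_, Finset.mem_insert_self _ _, mem_sup_left (h1 ▸ hg)⟩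
    by_cases h2 : C = B
    · exact ⟨_, Finset.mem_insert_self _ _, mem_sup_right (h2 ▸ hg)⟩
    exact ⟨C, Finset.mem_insert_of_mem (Finset.mem_erase.2 ⟨h2, Finset.mem_erase.2 ⟨h1, hC⟩⟩), hg⟩

variable {p : ℕ} [Fact p.Prime] {P : Sylow p G} (hab : IsMulCommutative P)
include hab

theorem le_cent {A : Subgroup G} (hA : A ∈ 𝓐) {x : G} (hx : x ∈ A) {k : ℕ}
    (hk : orderOf x = p ^ k) : A ≤ centralizer {x} := fun y hy => by
  haveI := h.2.2 A hA
  obtain ⟨a, b, ha, hb, rfl, -, ⟨j, hj⟩, hb'⟩ := FGS.exists_pPart p y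
  have ha' := zpowers_le.2 hy ha
  have hb'' := zpowers_le.2 hy hb
  refine mul_mem ?_ ?_
  · obtain ⟨S⟩ : Nonempty (Sylow p A) := inferInstance
    have m1 := FGS.mem_sylow_of_normal S (x := ⟨x, hx⟩) (by rw [← orderOf_coe]; exact hk)
    have m2 := FGS.mem_sylow_of_normal S (x := ⟨a, ha'⟩) (by rw [← orderOf_coe]; exact hj)
    obtain ⟨Q, hQ⟩ := (S.2.map A.subtype).exists_le_sylow
    exact FGS.le_centralizer_of_comm (FGS.isMulCommutative_sylow P Q hab)
      (hQ ⟨_, m1, rfl⟩) (hQ ⟨_, m2, rfl⟩)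
  · exact mem_centralizer_singleton_iff.2 (BG.Amb.nil_commute_of_coprime this hb'' hx (by
      rw [hk]; exact hb'.pow_right k)).eq

theorem unique (hZ : center G = ⊥) {A B : Subgroup G} (hA : A ∈ 𝓐) (hB : B ∈ 𝓐) {x : G}
    (hxA : x ∈ A) (hxB : x ∈ B) (h1 : x ≠ 1) {k : ℕ} (hk : orderOf x = p ^ k) : A = B := by
  by_contra hne
  have := FGS.mem_center_of_sup (h.sup_top hA hB hne) (h.le_cent hab hA hxA hk)
    (h.le_cent hab hB hxB hk)
  rw [hZ, mem_bot] at this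
  exact h1 this

theorem exists_cent (hZ : center G = ⊥)
    (hP : IsCyclic P ∨ ¬ IsElementaryAbelian p (P : Subgroup G)) (hP0 : (P : Subgroup G) ≠ ⊥) :
    ∃ A ∈ 𝓐, centralizer ((P : Subgroup G) : Set G) = A := by
  have hc := FGS.isMulCommutative_iff_forall.1 hab
  obtain ⟨A, hA, hle⟩ : ∃ A ∈ 𝓐, (P : Subgroup G) ≤ A := by
    rcases hP with hP | hP
    · obtain ⟨x, hx⟩ := hP.exists_generator
      obtain ⟨A, hA, hxA⟩ := h.1.2 x
      refine ⟨A, hA, fun y hy => ?_⟩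
      obtain ⟨k, hk⟩ := hx ⟨y, hy⟩
      rw [← show (x : G) ^ k = y from congrArg Subtype.val hk]
      exact zpow_mem hxA k
    · obtain ⟨y, hy, hy1⟩ : ∃ y ∈ (P : Subgroup G), y ^ p ≠ 1 := by
        by_contra hn
        push Not at hn
        exact hP ⟨hab, hn⟩
      obtain ⟨A, hA, hyA⟩ := h.1.2 y
      refine ⟨A, hA, fun u hu => ?_⟩
      by_contra huA
      obtain ⟨j, h1, h2⟩ := exists_pow_notMem_pow_mem (p := p) huA
        ((P.2 ⟨u, hu⟩).imp fun k hk => congrArg Subtype.val hk)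
      have hv := pow_mem hu (p ^ j)
      generalize u ^ p ^ j = v at h1 h2 hv
      obtain ⟨B, hB, hvB⟩ := h.1.2 v
      have h3 : v ^ p = 1 := by
        by_contra h3
        obtain ⟨k, hk⟩ := FGS.exists_orderOf_eq_of_mem P.2 (pow_mem hv p)
        exact h1 (h.unique hab hZ hA hB h2 (pow_mem hvB p) h3 hk ▸ hvB)
      obtain ⟨C, hC, hw⟩ := h.1.2 (y * v)
      have h4 := pow_mem hw p
      rw [(show Commute y v from hc y hy v hv).mul_pow, h3, mul_one] at h4
      obtain ⟨k, hk⟩ := FGS.exists_orderOf_eq_of_mem P.2 (pow_mem hy p)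
      rw [← h.unique hab hZ hA hC (pow_mem hyA p) h4 hy1 hk] at hw
      exact h1 ((mul_mem_cancel_left hyA).1 hw)
  refine ⟨A, hA, le_antisymm (fun c hc' => ?_) fun a ha x hx => ?_⟩
  · obtain ⟨a, b, ha, hb, rfl, -, ⟨j, hj⟩, hb'⟩ := FGS.exists_pPart p c
    refine mul_mem (hle (FGS.mem_sylow_of_mem_normalizer P hj
      (centralizer_le_normalizer _ (zpowers_le.2 hc' ha)))) ?_
    obtain ⟨x, hx, hx1⟩ := (bot_or_exists_ne_one _).resolve_left hP0
    obtain ⟨k, hk⟩ := FGS.exists_orderOf_eq_of_mem P.2 hx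
    have c1 : Commute x b := zpowers_le.2 hc' hb x hx
    have c2 : (orderOf x).Coprime (orderOf b) := by rw [hk]; exact (hb'.pow_right k).symm
    obtain ⟨B, hB, hxb⟩ := h.1.2 (x * b)
    rw [h.unique hab hZ hA hB (hle hx) (zpowers_le.2 hxb (FGS.mem_zpowers_mul_left c1 c2)) hx1 hk]
    exact zpowers_le.2 hxb (FGS.mem_zpowers_mul_right c1 c2)
  · obtain ⟨k, hk⟩ := FGS.exists_orderOf_eq_of_mem P.2 hx
    exact (mem_centralizer_singleton_iff.1 (h.le_cent hab hA (hle hx) hk ha)).symm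

theorem exists_cent_conj (hZ : center G = ⊥)
    (hP : IsCyclic P ∨ ¬ IsElementaryAbelian p (P : Subgroup G)) (hP0 : (P : Subgroup G) ≠ ⊥)
    (g : G) : MulAut.conj g • centralizer ((P : Subgroup G) : Set G) ∈ 𝓐 := by
  obtain ⟨A, hA, e⟩ := h.exists_cent (P := g • P) (FGS.isMulCommutative_sylow P _ hab) hZ
    (hP.imp (BG.Amb.isCyclic_conj (g := g)).2 (mt (BG.Amb.isElementaryAbelian_conj (g := g)).1))
    ((BG.Amb.conj_ne_bot_iff (g := g)).2 hP0)
  rw [BG.Amb.conj_centralizer]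
  exact e ▸ hA

omit h in
theorem mem_norm_of_conj {g : G} (e : MulAut.conj g • centralizer ((P : Subgroup G) : Set G) =
    centralizer ((P : Subgroup G) : Set G)) : g ∈ normalizer ((P : Subgroup G) : Set G) := by
  have hle := le_centralizer_iff_isMulCommutative.2 hab
  refine BG.Amb.mem_normalizer_of_conj_le ((Core.isSylowOf_top P).le_of_le_normalizer'
    (BG.Amb.isPGroup_conj.2 P.2) le_top ?_)
  exact ((BG.Amb.conj_mono g hle).trans e.le).trans (centralizer_le_normalizer _)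

theorem le_norm (hZ : center G = ⊥)
    (hP : IsCyclic P ∨ ¬ IsElementaryAbelian p (P : Subgroup G)) (hP0 : (P : Subgroup G) ≠ ⊥)
    {M : Subgroup G} (hM : M ≠ ⊤) (hle : centralizer ((P : Subgroup G) : Set G) ≤ M) :
    M ≤ normalizer ((P : Subgroup G) : Set G) := fun g hg => by
  by_contra hn
  have h1 := h.exists_cent_conj hab hZ hP hP0 1
  rw [BG.Amb.conj_one] at h1
  have := h.sup_top (h.exists_cent_conj hab hZ hP hP0 g) h1 fun e => hn (mem_norm_of_conj hab e)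
  exact hM (eq_top_iff.2 (this ▸ sup_le (BG.Amb.conj_le_of_mem hg hle) hle))

theorem isCoatom (hZ : center G = ⊥)
    (hP : IsCyclic P ∨ ¬ IsElementaryAbelian p (P : Subgroup G))
    (hnn : ¬ (P : Subgroup G).Normal) : IsCoatom (normalizer ((P : Subgroup G) : Set G)) := by
  refine ⟨fun e => hnn (normalizer_eq_top_iff.1 e), fun M hM => ?_⟩
  by_contra hn
  exact hM.not_ge (h.le_norm hab hZ hP (fun e => hnn (e ▸ inferInstance)) hn
    ((centralizer_le_normalizer _).trans hM.le))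

end NilCover

end Cfsg.Agent.PGrp
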