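import Mathlib

/-! Subgroups of dihedral groups. -/

set_option autoImplicit false

open DihedralGroup

namespace Cfsg.Agent.PGrp

variable {n : ℕ}

/-- The dihedral subgroup generated by the rotations through multiples of `d` and a reflection. -/
def dihSub (n : ℕ) (d : ℤ) : Subgroup (DihedralGroup n) where
  carrier := {g | ∃ t : ℤ, g = r ((d * t : ℤ) : ZMod n) ∨ g = sr ((d * t : ℤ) : ZMod n)}
  one_mem' := ⟨0, Or.inl (by simp)⟩
  mul_mem' := by
    rintro _ _ ⟨s, rfl | rfl⟩ ⟨t, rfl | rfl⟩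
    · exact ⟨s + t, Or.inl (by simp [mul_add])⟩
    · exact ⟨t - s, Or.inr (by simp [mul_sub])⟩
    · exact ⟨s + t, Or.inr (by simp [mul_add])⟩
    · exact ⟨t - s, Or.inl (by simp [mul_sub])⟩
  inv_mem' := by
    rintro _ ⟨s, rfl | rfl⟩
    · exact ⟨-s, Or.inl (by simp)⟩
    · exact ⟨s, Or.inr (by simp)⟩

theorem r_mem_dihSub {d : ℤ} (hd : d ∣ n) {a : ℤ} : r (a : ZMod n) ∈ dihSub n d ↔ d ∣ a := by
  constructor
  · rintro ⟨t, h | h⟩
    · have := (ZMod.intCast_eq_intCast_iff_dvd_sub _ _ _).1 (r.inj h)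
      simpa using (dvd_mul_right d t).sub (hd.trans this)
    · cases h
  · rintro ⟨t, rfl⟩
    exact ⟨t, Or.inl rfl⟩

theorem sr_mem_dihSub {d : ℤ} {a : ZMod n} : sr a ∈ dihSub n d ↔ r a ∈ dihSub n d := by
  have h0 : sr 0 ∈ dihSub n d := ⟨0, Or.inr (by simp)⟩
  rw [← (dihSub n d).mul_mem_cancel_left h0]
  simp

theorem not_comm_dihSub {d : ℤ} (h : ¬ (n : ℤ) ∣ 2 * d) : ¬ IsMulCommutative (dihSub n d) := fun hc => by
  have := congrArg Subtype.val (hc.is_comm.comm (⟨r (d : ZMod n), 1, Or.inl (by simp)⟩ : dihSub n d)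
    ⟨sr 0, 0, Or.inr (by simp)⟩)
  simp only [Subgroup.coe_mul, r_mul_sr, sr_mul_r, sr.injEq] at this
  refine h ((ZMod.intCast_zmod_eq_zero_iff_dvd _ _).1 ?_)
  push_cast
  linear_combination -this

theorem exists_sr_of_not_isCyclic {H : Subgroup (DihedralGroup n)} (h : ¬ IsCyclic H) :
    ∃ i, sr i ∈ H := by
  by_contra hn
  push Not at hn
  refine h (Subgroup.isCyclic_of_le (H' := Subgroup.zpowers (r 1)) ?_)
  rintro (a | a) ha
  · obtain ⟨k, rfl⟩ := ZMod.intCast_surjective a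
    exact ⟨k, r_one_zpow k⟩
  · exact absurd ha (hn a)

theorem zmod_zero_of_odd (h : Odd n) {a : ZMod n} (e : 2 * a = 0) : a = 0 := by
  obtain ⟨k, rfl⟩ := h
  have : ((2 * k + 1 : ℕ) : ZMod (2 * k + 1)) = 0 := ZMod.natCast_self _
  push_cast at this
  linear_combination a * this - k * e

end Cfsg.Agent.PGrp
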